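import Cfsg.Agent.H178.CType.TwoLocal

/-!
# Groups with property `Good`: abelian Sylow 2-subgroups, and the centralizer `SL₂(3)`-type
-/

set_option autoImplicit false

namespace Cfsg.Agent.H178.CType

open Subgroup Cfsg.Agent.H503.TwoReg Cfsg Cfsg.Agent.Lib.Cores
open scoped Pointwise

theorem cz_conj {G : Type*} [Group G] (g x : G) : cz (g * x * g⁻¹) = MulAut.conj g • cz x := by
  ext y
  rw [mem_cz, Subgroup.mem_pointwise_smul_iff_inv_smul_mem, mem_cz]
  rw [← map_inv, MulAut.smul_def, MulAut.conj_apply, inv_inv]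
  constructor
  · intro h
    calc g⁻¹ * y * g * x = g⁻¹ * (y * (g * x * g⁻¹)) * g := by group
      _ = g⁻¹ * (g * x * g⁻¹ * y) * g := by rw [h]
      _ = x * (g⁻¹ * y * g) := by group
  · intro h
    calc y * (g * x * g⁻¹) = g * (g⁻¹ * y * g * x) * g⁻¹ := by group
      _ = g * (x * (g⁻¹ * y * g)) * g⁻¹ := by rw [h]
      _ = g * x * g⁻¹ * y := by group

variable {G : Type*} [Group G] [Finite G] {m : ℕ}

/-- In a group with property `Good` whose involution centralizers are solvable with trivial odd core and not all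
2-groups, the Sylow 2-subgroups are abelian. -/
theorem Good.sylow_comm (h : Good G m) (hsol : ∀ t : G, orderOf t = 2 → Group.IsSolvable (cz t))
    (hcore : ∀ t : G, orderOf t = 2 → pPrimeCore 2 ↥(cz t) = ⊥) {t : G} (ht : orderOf t = 2)
    (hnp : ¬ IsPGroup 2 (cz t)) (S : Sylow 2 G) : ∀ a ∈ S, ∀ b ∈ S, a * b = b * a := by
  -- a general fact on involutions whose centralizer is not a 2-group
  have hex : ∀ t : G, orderOf t = 2 → ¬ IsPGroup 2 (cz t) → ∃ (r : ℕ) (w : G), r.Prime ∧ r ≠ 2 ∧ w ^ r ^ 1 = 1 ∧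
      w ≠ 1 ∧ w ∈ cz t ∧ ¬ cz t ≤ cz w := by
    intro t ht hnp
    obtain ⟨r, hr, hrd, hr2⟩ : ∃ r : ℕ, r.Prime ∧ r ∣ Nat.card (cz t) ∧ r ≠ 2 := by
      by_contra hcon
      push Not at hcon
      apply hnp
      have h0 : Nat.card (cz t) ≠ 0 := Nat.card_pos.ne'
      have : Nat.card (cz t) = 2 ^ (Nat.card (cz t)).primeFactorsList.length :=
        Nat.eq_prime_pow_of_unique_prime_dvd h0 (fun {d} hd hdd => hcon d hd hdd)
      exact IsPGroup.of_card this
    have := Fact.mk hr
    obtain ⟨w, hw⟩ := exists_prime_orderOf_dvd_card' r hrd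
    have hw' : (w : G) ^ r ^ 1 = 1 := by
      rw [pow_one, ← hw, ← orderOf_coe]
      exact pow_orderOf_eq_one _
    have hw1 : (w : G) ≠ 1 := by
      intro h1
      have : w = 1 := Subtype.ext h1
      rw [this, orderOf_one] at hw
      exact hr.one_lt.ne hw
    refine ⟨r, w, hr, hr2, hw', hw1, w.2, ?_⟩
    rw [← mem_center_cz]
    intro hc
    have hn : (zpowers w).Normal := by
      refine ⟨fun a ha g => ?_⟩
      have h1 : a ∈ center (cz t) := (zpowers_le.mpr hc) ha
      rw [mem_center_iff.mp h1 g, mul_inv_cancel_right]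
      exact ha
    have h1 : zpowers w ≤ pPrimeCore 2 ↥(cz t) := by
      refine le_pPrimeCore hn ?_
      rw [Nat.card_zpowers, hw]
      exact (Nat.coprime_primes hr Nat.prime_two).mpr hr2
    rw [hcore t ht, le_bot_iff, zpowers_eq_bot] at h1
    exact hw1 (congrArg Subtype.val h1)
  obtain ⟨r, w, hr, hr2, hwr, hw1, hw, hwn⟩ := hex t ht hnp
  have := Fact.mk hr
  have ht1 : t ≠ 1 := by
    rintro rfl
    rw [orderOf_one] at ht; omega
  have htt : t * t = 1 := by rw [← pow_two, ← ht]; exact pow_orderOf_eq_one t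
  have ht2 : t ^ 2 ^ 1 = 1 := by rw [pow_one, pow_two, htt]
  have hwo : (orderOf w).Coprime 2 :=
    Nat.Coprime.coprime_dvd_left (orderOf_dvd_of_pow_eq_one hwr)
      (Nat.Coprime.pow_left _ ((Nat.coprime_primes hr Nat.prime_two).mpr hr2))
  have hm := h.card_mul ht1 hw (coprime_two_of_pow ht2 hwo) hwn
  -- `m` is not a power of two
  have hm2 : ∀ H : Subgroup G, IsPGroup 2 H → Nat.card H ≠ m := by
    intro H hH hHm
    obtain ⟨n, hn⟩ := hH.exists_card_eq
    have h1 : w ∈ cz (t * w) := by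
      rw [cz_mul (mem_cz.mp hw).symm (coprime_two_of_pow ht2 hwo)]
      exact ⟨hw, mem_cz.mpr rfl⟩
    have h2 : orderOf (⟨w, h1⟩ : cz (t * w)) ∣ Nat.card (cz (t * w)) := orderOf_dvd_natCard _
    rw [Subgroup.orderOf_mk, hm, ← hHm, hn] at h2
    have h3 : (orderOf w).Coprime (2 ^ n) := Nat.Coprime.pow_right n hwo
    have h4 := Nat.Coprime.eq_one_of_dvd h3 h2
    exact hw1 (orderOf_eq_one_iff.mp h4)
  have hord : ∀ u : G, u ≠ 1 → u * u = 1 → orderOf u = 2 := fun u hu huu =>
    orderOf_eq_prime (by rw [pow_two, huu]) hu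
  -- elements of order four
  have hfour : ∀ x : G, x * x ≠ 1 → (x * x) * (x * x) = 1 → IsPGroup 2 (cz (x * x)) ∧ cz x = cz (x * x) ∧
      ∃ T : Sylow 2 G, cz (x * x) = T := by
    intro x hx hxx
    have hu := hord _ hx hxx
    have hp : IsPGroup 2 (cz (x * x)) := by
      by_contra hnp'
      obtain ⟨r', w', hr', hr2', hwr', -, hw', hwn'⟩ := hex _ hu hnp'
      exact h.not_sq hx hxx (hsol _ hu) (OddCentral.of_core (hcore _ hu)) hr' hr2' hwr' hw' hwn' x rfl
    have heq : cz x = cz (x * x) := by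
      by_contra hne
      have h1 := h x (x * x) hx (lt_of_le_of_ne (cz_le_sq x) hne)
      exact hm2 (cz x) (hp.to_le (cz_le_sq x)) h1
    refine ⟨hp, heq, ?_⟩
    obtain ⟨T, hT⟩ := hp.exists_le_sylow
    refine ⟨T, ?_⟩
    -- an involution in the centre of `T`
    have hne : Nontrivial T := by
      have hxT : x * x ∈ T := hT (mem_cz.mpr rfl)
      exact ⟨⟨⟨x * x, hxT⟩, 1, fun h1 => hx (congrArg Subtype.val h1)⟩⟩
    have hcn := T.isPGroup'.center_nontrivial
    obtain ⟨z, hz⟩ := exists_ne (1 : center T)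
    have hz1 : ((z : T) : G) ≠ 1 := fun h1 => hz (Subtype.ext (Subtype.ext h1))
    have hTz : (T : Subgroup G) ≤ cz ((z : T) : G) := by
      intro g hg
      exact mem_cz.mpr (congrArg Subtype.val (mem_center_iff.mp z.2 ⟨g, hg⟩))
    have h1 : cz (x * x) = cz ((z : T) : G) := by
      by_contra hne'
      have h2 := h _ _ hz1 (lt_of_le_of_ne (hT.trans hTz) hne')
      exact hm2 _ hp h2
    exact le_antisymm hT (h1 ▸ hTz)
  by_cases hS : ∀ y ∈ S, y * y = 1
  · intro a ha b hb
    have h1 := hS _ (mul_mem ha hb)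
    have h2 := hS _ ha
    have h3 := hS _ hb
    have ha' : a⁻¹ = a := inv_eq_of_mul_eq_one_left h2
    have hb' : b⁻¹ = b := inv_eq_of_mul_eq_one_left h3
    have hab' : (a * b)⁻¹ = a * b := inv_eq_of_mul_eq_one_left h1
    rw [← hab', mul_inv_rev, ha', hb']
  · push Not at hS
    obtain ⟨y₀, hy₀, hy₀1⟩ := hS
    -- powers of order four
    have hpow : ∀ (k : ℕ) (y : G), y ^ 2 ^ k = 1 → y * y ≠ 1 → ∃ n : ℕ, y ^ n * y ^ n ≠ 1 ∧
        (y ^ n * y ^ n) * (y ^ n * y ^ n) = 1 := by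
      intro k
      induction k with
      | zero =>
        intro y hy hyy
        rw [pow_zero, pow_one] at hy
        exact absurd (by rw [hy, mul_one]) hyy
      | succ k ih =>
        intro y hy hyy
        by_cases h1 : (y * y) * (y * y) = 1
        · exact ⟨1, by rwa [pow_one], by rwa [pow_one]⟩
        · have h2 : (y * y) ^ 2 ^ k = 1 := by
            rw [← pow_two, ← pow_mul, ← pow_succ']
            exact hy
          obtain ⟨n, hn1, hn2⟩ := ih (y * y) h2 h1
          refine ⟨2 * n, ?_, ?_⟩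
          · rwa [pow_mul, pow_two]
          · rwa [pow_mul, pow_two]
    have hSp : ∀ y ∈ S, ∃ k : ℕ, y ^ 2 ^ k = 1 := by
      intro y hy
      obtain ⟨k, hk⟩ := S.isPGroup' ⟨y, hy⟩
      exact ⟨k, congrArg Subtype.val hk⟩
    obtain ⟨x, hxx, hxx4, hxS⟩ : ∃ x : G, x * x ≠ 1 ∧ (x * x) * (x * x) = 1 ∧ cz (x * x) = S := by
      obtain ⟨k, hk⟩ := hSp y₀ hy₀
      obtain ⟨n, hn1, hn2⟩ := hpow k y₀ hk hy₀1
      obtain ⟨-, -, T, hT⟩ := hfour _ hn1 hn2
      obtain ⟨g, hg⟩ := MulAction.exists_smul_eq G T S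
      have hc : (g * y₀ ^ n * g⁻¹) * (g * y₀ ^ n * g⁻¹) = g * (y₀ ^ n * y₀ ^ n) * g⁻¹ := by group
      refine ⟨g * y₀ ^ n * g⁻¹, ?_, ?_, ?_⟩
      · rw [hc]
        intro h1
        apply hn1
        calc y₀ ^ n * y₀ ^ n = g⁻¹ * (g * (y₀ ^ n * y₀ ^ n) * g⁻¹) * g := by group
          _ = 1 := by rw [h1]; group
      · rw [hc]
        have : g * (y₀ ^ n * y₀ ^ n) * g⁻¹ * (g * (y₀ ^ n * y₀ ^ n) * g⁻¹) =
          g * ((y₀ ^ n * y₀ ^ n) * (y₀ ^ n * y₀ ^ n)) * g⁻¹ := by group
        rw [this, hn2, mul_one, mul_inv_cancel]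
      · rw [hc, cz_conj, hT, ← hg]
        rfl
    have hxS' : cz x = S := by
      obtain ⟨-, h1, -⟩ := hfour x hxx hxx4
      rw [h1, hxS]
    -- the involutions of `S` are central
    have hinv : ∀ v ∈ S, v * v = 1 → (S : Subgroup G) ≤ cz v := by
      intro v hv hvv
      have hvx : v * x = x * v := mem_cz.mp (hxS' ▸ hv : v ∈ cz x)
      have h1 : (v * x) * (v * x) = x * x := by
        calc (v * x) * (v * x) = v * (x * v) * x := by group
          _ = v * (v * x) * x := by rw [hvx]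
          _ = (v * v) * (x * x) := by group
          _ = x * x := by rw [hvv, one_mul]
      obtain ⟨-, h2, -⟩ := hfour (v * x) (by rw [h1]; exact hxx) (by rw [h1]; exact hxx4)
      rw [h1, hxS] at h2
      intro g hg
      have hgx : Commute g x := mem_cz.mp (hxS' ▸ hg : g ∈ cz x)
      have hgvx : Commute g (v * x) := mem_cz.mp (h2 ▸ hg : g ∈ cz (v * x))
      have := hgvx.mul_right hgx.inv_right
      rw [mul_inv_cancel_right] at this
      exact mem_cz.mpr this
    have hall : ∀ y ∈ S, (S : Subgroup G) ≤ cz y := by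
      intro y hy
      by_cases hyy : y * y = 1
      · exact hinv y hy hyy
      · obtain ⟨k, hk⟩ := hSp y hy
        obtain ⟨n, hn1, hn2⟩ := hpow k y hk hyy
        obtain ⟨h1, h2, T, hT⟩ := hfour _ hn1 hn2
        have h3 : (S : Subgroup G) ≤ cz (y ^ n * y ^ n) :=
          hinv _ (mul_mem (pow_mem hy n) (pow_mem hy n)) hn2
        have h4 : (S : Subgroup G) = cz (y ^ n * y ^ n) := (S.is_maximal' h1 h3).symm
        have h5 : cz y ≤ cz (y ^ n) := centralizer_le_of_mem_zpowers (npow_mem_zpowers y n)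
        have h6 : cz y = cz (y ^ n) := by
          by_contra hne
          have hn0 : y ^ n ≠ 1 := by
            intro h0
            apply hn1
            rw [h0, mul_one]
          exact hm2 _ (h1.to_le (h5.trans h2.le)) (h _ _ hn0 (lt_of_le_of_ne h5 hne))
        rw [h6, h2, ← h4]
    intro a ha b hb
    exact (mem_cz.mp (hall b hb ha))

/-- No classical involution with `SL₂(3)`. -/
theorem Good.false_of_quat (h : Good G m) {j x y d : G} (hj : orderOf j = 2) (hsol : Group.IsSolvable (cz j))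
    (hxj : x * x = j) (hyj : y ∈ cz j) (hxQ : (⟨x, hxj ▸ (mem_cz.mpr (mul_assoc x x x).symm)⟩ : cz j) ∈ pCore 2 (cz j))
    (hyQ : (⟨y, hyj⟩ : cz j) ∈ pCore 2 (cz j)) (hxy : x * y ≠ y * x)
    (hd : d ^ 3 = 1) (hdj : d ∈ cz j) (hdx : d * x ≠ x * d) : False := by
  have hj1 : j ≠ 1 := by
    rintro rfl
    rw [orderOf_one] at hj; omega
  have hjj : j * j = 1 := by rw [← pow_two, ← hj]; exact pow_orderOf_eq_one j
  have hj2 : j ^ 2 ^ 1 = 1 := by rw [pow_one, pow_two, hjj]
  have hx4 : x ^ 2 ^ 2 = 1 := by rw [pow_four', hxj, hjj]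
  have hxc : x ∈ cz j := hxj ▸ (mem_cz.mpr (mul_assoc x x x).symm)
  have hlt : cz x < cz j := by
    refine lt_of_le_of_ne (hxj ▸ cz_le_sq x) ?_
    intro he
    apply hxy
    exact (mem_cz.mp (he ▸ hyj : y ∈ cz x)).symm
  have hm := h x j hj1 hlt
  have hx1 : x ≠ 1 := by
    rintro rfl
    apply hxy; rw [one_mul, mul_one]
  have hodd : OddCentral (cz j) := by
    intro r hr hr2 a ha
    have := Fact.mk hr
    by_contra hac
    rw [mem_center_cz] at hac
    have hcomm : ∀ u ∈ pCore 2 (cz j), u * a = a * u := by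
      intro u hu
      have h1 := Subgroup.commute_of_normal_of_disjoint (pCore 2 (cz j)) (pCore r (cz j)) inferInstance inferInstance
        (IsPGroup.disjoint_of_ne 2 r (Ne.symm hr2) _ _ (pCore_isPGroup 2) (pCore_isPGroup r)) u a hu ha
      exact h1
    obtain ⟨k, hk⟩ := pCore_isPGroup r ⟨a, ha⟩
    have hk' : (a : G) ^ r ^ k = 1 := congrArg (fun z => ((z : ↥(cz j)) : G)) (congrArg Subtype.val hk)
    have hao : (orderOf (a : G)).Coprime 2 :=
      Nat.Coprime.coprime_dvd_left (orderOf_dvd_of_pow_eq_one hk')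
        (Nat.Coprime.pow_left k ((Nat.coprime_primes hr Nat.prime_two).mpr hr2))
    have hax : (a : G) ∈ cz x := mem_cz.mpr (congrArg Subtype.val (hcomm _ hxQ)).symm
    have h1 : cz x ≤ cz (a : G) := h.low_central hx1 hm hax (coprime_two_of_pow hx4 hao)
    have h2 : Nat.card (cz (j * a)) = m := h.card_mul hj1 a.2 (coprime_two_of_pow hj2 hao) hac
    have h3 : cz (j * a) = cz j ⊓ cz (a : G) := cz_mul (mem_cz.mp a.2).symm (coprime_two_of_pow hj2 hao)
    have h4 : cz x = cz (j * a) := by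
      refine Subgroup.eq_of_le_of_card_ge ?_ (by rw [h2, hm])
      rw [h3]
      exact le_inf hlt.le h1
    apply hxy
    have h5 : y ∈ cz x := by
      rw [h4, h3]
      exact ⟨hyj, mem_cz.mpr (congrArg Subtype.val (hcomm _ hyQ))⟩
    exact (mem_cz.mp h5).symm
  have hdn : ¬ cz j ≤ cz d := by
    intro hle
    exact hdx (mem_cz.mp (hle hxc)).symm
  have h1 := h.cz_eq hj1 hj2 hsol hodd Nat.prime_three (by decide) (j := 1) (by rw [pow_one]; exact hd) hdj hdn hx4
    hlt.le
  exact hlt.ne h1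

end Cfsg.Agent.H178.CType
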