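import Cfsg.Agent.S4033
import Cfsg.Agent.S0564
import Cfsg.Agent.S0144
import Cfsg.Agent.S0028
import Cfsg.Agent.OddOrderLocal.RankTwoFitting

/-!
# Groups in which all non-maximal centralizers have the same order

`Good G m`: whenever `C(x) < C(y)` with `y ≠ 1`, the order of `C(x)` is `m`. (Finite groups with few class sizes have this
property.)
-/

set_option autoImplicit false

namespace Cfsg.Agent.H178.CType

open Subgroup Cfsg.Agent.H503.TwoReg Cfsg.Agent.H503

section basic

variable {G : Type*} [Group G]

/-- The centralizer of an element. -/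
abbrev cz (x : G) : Subgroup G := centralizer ({x} : Set G)

theorem mem_cz {x g : G} : g ∈ cz x ↔ g * x = x * g := mem_centralizer_singleton_iff

/-- the non-maximal centralizers have order `m` -/
def Good (G : Type*) [Group G] (m : ℕ) : Prop :=
  ∀ x y : G, y ≠ 1 → cz x < cz y → Nat.card (cz x) = m

theorem cz_mul {x w : G} (hc : Commute x w) (hcop : (orderOf x).Coprime (orderOf w)) :
    cz (x * w) = cz x ⊓ cz w := by
  apply le_antisymm
  · exact le_inf (centralizer_le_of_mem_zpowers (left_mem_zpowers_mul hc hcop))
      (centralizer_le_of_mem_zpowers (right_mem_zpowers_mul hc hcop))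
  · rintro g ⟨h1, h2⟩
    have h1' : Commute g x := mem_cz.mp h1
    have h2' : Commute g w := mem_cz.mp h2
    exact mem_cz.mpr (h1'.mul_right h2')

theorem cz_le_sq (x : G) : cz x ≤ cz (x * x) := by
  intro g hg
  have h : Commute g x := mem_cz.mp hg
  exact mem_cz.mpr (h.mul_right h)

theorem coprime_two_of_pow {x a : G} {k : ℕ} (hx : x ^ 2 ^ k = 1) (ha : (orderOf a).Coprime 2) :
    (orderOf x).Coprime (orderOf a) :=
  Nat.Coprime.coprime_dvd_left (orderOf_dvd_of_pow_eq_one hx) (Nat.Coprime.pow_left k ha.symm)

/-- In a group with property `Good`, the elements of order prime to `o(x)` in a small centralizer `C(x)` are central in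
it. -/
theorem Good.low_central [Finite G] {m : ℕ} (h : Good G m) {x w : G} (hx : x ≠ 1) (hm : Nat.card (cz x) = m)
    (hw : w ∈ cz x) (hcop : (orderOf x).Coprime (orderOf w)) : cz x ≤ cz w := by
  have h1 : cz (x * w) = cz x ⊓ cz w := cz_mul (mem_cz.mp hw).symm hcop
  by_contra hle
  have h2 : cz (x * w) < cz x := by
    rw [h1]
    exact lt_of_le_of_ne inf_le_left (fun he => hle (inf_eq_left.mp he))
  have h3 := h _ _ hx h2
  have h4 : cz (x * w) = cz x := Subgroup.eq_of_le_of_card_ge h2.le (by rw [h3, hm])
  exact h2.ne h4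

theorem Good.card_mul [Finite G] {m : ℕ} (h : Good G m) {y w : G} (hy : y ≠ 1) (hw : w ∈ cz y)
    (hcop : (orderOf y).Coprime (orderOf w)) (hn : ¬ cz y ≤ cz w) : Nat.card (cz (y * w)) = m := by
  have h1 : cz (y * w) = cz y ⊓ cz w := cz_mul (mem_cz.mp hw).symm hcop
  refine h _ _ hy ?_
  rw [h1]
  exact lt_of_le_of_ne inf_le_left (fun he => hn (inf_eq_left.mp he))

end basic

section solvable

/-- A finite group with an abelian subgroup of `p`-power index and order prime to `p` is solvable. -/
theorem solvable_of_compl {C : Type*} [Group C] [Finite C] {p : ℕ} (hp : p.Prime) (H : Subgroup C)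
    (hH : IsMulCommutative H) (h1 : ¬ p ∣ Nat.card H) {k : ℕ} (h2 : H.index = p ^ k) : Group.IsSolvable C := by
  have := Fact.mk hp
  let P : Sylow p C := default
  have hPn : Group.IsNilpotent (P : Subgroup C) := P.isPGroup'.isNilpotent
  have hHn : Group.IsNilpotent H := by
    let _ : CommGroup H := { (inferInstance : Group H) with mul_comm := fun a b => hH.is_comm.comm a b }
    exact CommGroup.isNilpotent (G := H)
  have hcard : Nat.card (P : Subgroup C) = p ^ k := by
    have h3 := P.card_eq_multiplicity
    rw [h3]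
    congr 1
    have h4 := H.card_mul_index
    rw [h2] at h4
    rw [← h4, Nat.factorization_mul Nat.card_pos.ne' (pow_ne_zero _ hp.ne_zero), Nat.factorization_pow]
    simp [Nat.factorization_eq_zero_of_not_dvd h1, hp.factorization_self]
  have hcop : (Nat.card H).Coprime (Nat.card (P : Subgroup C)) := by
    rw [hcard]
    exact Nat.Coprime.pow_right _ (Nat.Coprime.symm ((Nat.Prime.coprime_iff_not_dvd hp).mpr h1))
  have hcompl : IsComplement' H (P : Subgroup C) := by
    apply isComplement'_of_coprime _ hcop
    rw [hcard, ← h2]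
    exact H.card_mul_index
  refine S0564.result H (P : Subgroup C) hHn hPn fun g => ?_
  obtain ⟨⟨a, b⟩, hab⟩ := hcompl.surjective g
  exact ⟨a, a.2, b, b.2, hab.symm⟩

/-- If all the non-central elements of order prime to `p` have the same class size then the group is solvable. -/
theorem solvable_of_HH {C : Type*} [Group C] [Finite C] {p m : ℕ} (hp : p.Prime) (h : HH C p m) :
    Group.IsSolvable C := by
  have := Fact.mk hp
  by_cases hex : ∃ x : C, PR p x
  · have h2 : Set.ncard (Set.range fun x : {x : C // (orderOf x).Coprime p} =>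
        (ConjClasses.mk (x : C)).carrier.ncard) = 2 := by
      obtain ⟨x, hx⟩ := hex
      have hm1 : (1 : ℕ) ≠ m := by
        intro he
        apply hx.2
        rw [mem_center_iff_centralizer, ← index_eq_one, h x hx, ← he]
      have hset : (Set.range fun x : {x : C // (orderOf x).Coprime p} =>
        (ConjClasses.mk (x : C)).carrier.ncard) = {1, m} := by
        apply le_antisymm
        · rintro _ ⟨⟨y, hy⟩, rfl⟩
          show (ConjClasses.mk y).carrier.ncard ∈ ({1, m} : Set ℕ)
          rw [ncard_class]
          by_cases hyc : y ∈ center C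
          · left
            rw [mem_center_iff_centralizer.mp hyc, index_top]
          · right
            exact h y ⟨hy, hyc⟩
        · rintro n (rfl | hn)
          · refine ⟨⟨1, by simp⟩, ?_⟩
            show (ConjClasses.mk (1 : C)).carrier.ncard = 1
            rw [ncard_class, mem_center_iff_centralizer.mp (one_mem _), index_top]
          · rw [Set.mem_singleton_iff] at hn
            subst hn
            refine ⟨⟨x, hx.1⟩, ?_⟩
            show (ConjClasses.mk x).carrier.ncard = _
            rw [ncard_class, h x hx]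
      rw [hset, Set.ncard_pair hm1]
    rcases S4033.result hp h2 with ⟨H, hH, h3, k, h4⟩ | ⟨q, hq, P, Q, A, hqp, hA, hcard, hn, -, hsup⟩
    · exact solvable_of_compl hp H hH h3 h4
    · have := hn
      have hs1 : Group.IsSolvable ↥((P : Subgroup C) ⊔ (Q : Subgroup C)) := by
        obtain ⟨a, ha⟩ := P.isPGroup'.exists_card_eq
        obtain ⟨b, hb⟩ := Q.isPGroup'.exists_card_eq
        exact S0144.result p q a b hp hq.out (by rw [hcard, ha, hb])
      have hs2 : Group.IsSolvable (C ⧸ ((P : Subgroup C) ⊔ (Q : Subgroup C))) := by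
        have hcomm : ∀ a b : C ⧸ ((P : Subgroup C) ⊔ (Q : Subgroup C)), a * b = b * a := by
          have key : ∀ a : C, ∃ c ∈ center C, (QuotientGroup.mk a : C ⧸ ((P : Subgroup C) ⊔ (Q : Subgroup C))) =
              QuotientGroup.mk c := by
            intro a
            have ha : a ∈ ((P : Subgroup C) ⊔ (Q : Subgroup C)) ⊔ A := by rw [hsup]; trivial
            obtain ⟨u, hu, c, hc, rfl⟩ := mem_sup_of_normal_left.mp ha
            refine ⟨c, hA hc, ?_⟩
            rw [QuotientGroup.eq]
            have : (u * c)⁻¹ * c = c⁻¹ * u⁻¹ * c⁻¹⁻¹ := by group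
            rw [this]
            exact hn.conj_mem _ (inv_mem hu) _
          intro a b
          obtain ⟨a, rfl⟩ := QuotientGroup.mk_surjective a
          obtain ⟨b, rfl⟩ := QuotientGroup.mk_surjective b
          obtain ⟨c, hc, hac⟩ := key a
          rw [hac, ← QuotientGroup.mk_mul, ← QuotientGroup.mk_mul, mem_center_iff.mp hc b]
        exact Group.isSolvable_of_comm hcomm
      exact Group.isSolvable_of_ker_le_range (((P : Subgroup C) ⊔ (Q : Subgroup C)).subtype)
        (QuotientGroup.mk' ((P : Subgroup C) ⊔ (Q : Subgroup C))) (by rw [QuotientGroup.ker_mk', range_subtype])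
  · -- the group modulo its centre is a `p`-group
    push Not at hex
    have hcen : ∀ x : C, (orderOf x).Coprime p → x ∈ center C := by
      intro x hx
      by_contra hc
      exact hex x ⟨hx, hc⟩
    have hpq : IsPGroup p (C ⧸ center C) := by
      intro x
      obtain ⟨x, rfl⟩ := QuotientGroup.mk_surjective x
      -- `x ^ (p-part)` has order prime to `p`
      refine ⟨(orderOf x).factorization p, ?_⟩
      rw [← QuotientGroup.mk_pow, QuotientGroup.eq_one_iff]
      apply hcen
      have h0 : orderOf x ≠ 0 := (orderOf_pos x).ne'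
      rw [orderOf_pow_of_dvd (pow_ne_zero _ hp.ne_zero) (Nat.ordProj_dvd _ _)]
      exact (Nat.coprime_ordCompl hp h0).symm
    have hn : Group.IsNilpotent (C ⧸ center C) := hpq.isNilpotent
    have hs2 : Group.IsSolvable (C ⧸ center C) := inferInstance
    have hs1 : Group.IsSolvable (center C) :=
      Group.isSolvable_of_comm fun a b => Subtype.ext (mem_center_iff.mp b.2 a)
    exact Group.isSolvable_of_ker_le_range (center C).subtype
        (QuotientGroup.mk' (center C)) (by rw [QuotientGroup.ker_mk', range_subtype])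

theorem card_cz_subgroup {G : Type*} [Group G] (H : Subgroup G) (w : H) :
    Nat.card (centralizer ({w} : Set H)) = Nat.card ↥(H ⊓ cz (w : G)) := by
  have h1 : (centralizer ({w} : Set H)).map H.subtype = H ⊓ cz (w : G) := by
    ext g
    constructor
    · rintro ⟨g, hg, rfl⟩
      exact ⟨g.2, mem_cz.mpr (congrArg Subtype.val (mem_centralizer_singleton_iff.mp hg))⟩
    · rintro ⟨hg, hgw⟩
      refine ⟨⟨g, hg⟩, ?_, rfl⟩
      rw [SetLike.mem_coe, mem_centralizer_singleton_iff]
      exact Subtype.ext (mem_cz.mp hgw)
  rw [← h1, Nat.card_congr ((centralizer ({w} : Set H)).equivMapOfInjective H.subtype (subtype_injective _)).toEquiv]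

theorem mem_center_cz {G : Type*} [Group G] {y : G} (w : cz y) : w ∈ center (cz y) ↔ cz y ≤ cz (w : G) := by
  rw [mem_center_iff]
  constructor
  · intro h g hg
    rw [mem_cz]
    exact congrArg Subtype.val (h ⟨g, hg⟩)
  · intro h g
    exact Subtype.ext (mem_cz.mp (h g.2))

theorem Good.solvable {G : Type*} [Group G] [Finite G] {m : ℕ} (h : Good G m) {p : ℕ} (hp : p.Prime) {y : G}
    (hy : y ≠ 1) {k : ℕ} (hk : y ^ p ^ k = 1) : Group.IsSolvable (cz y) := by
  refine solvable_of_HH (m := Nat.card (cz y) / m) hp ?_
  rintro w ⟨hwp, hwc⟩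
  rw [mem_center_cz] at hwc
  rw [← orderOf_coe] at hwp
  have hcop : (orderOf y).Coprime (orderOf (w : G)) :=
    Nat.Coprime.coprime_dvd_left (orderOf_dvd_of_pow_eq_one hk) (Nat.Coprime.pow_left k hwp.symm)
  have h1 := h.card_mul hy w.2 hcop hwc
  rw [cz_mul (mem_cz.mp w.2).symm hcop, ← card_cz_subgroup] at h1
  have h2 := (centralizer ({w} : Set (cz y))).card_mul_index
  have hm : 0 < m := by rw [← h1]; exact Nat.card_pos
  rw [h1] at h2
  rw [← h2, Nat.mul_div_cancel_left _ hm]

end solvable

end Cfsg.Agent.H178.CType
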