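import Cfsg.Agent.H178.CType.AbSylow
import Cfsg.Agent.S3214
import Cfsg.Agent.S3188
import Cfsg.Agent.S1311
import Cfsg.Agent.S0252
import Cfsg.Agent.S0254
import Cfsg.Agent.S1152
import Cfsg.Agent.S1157
import Cfsg.Agent.Classification.NGroupExclude
import Cfsg.Agent.LieClassical.SLTwoThree
import Cfsg.Agent.ChevalleyStructure.FieldIso
import Cfsg.Agent.PLocal.SubnormalCore
import Cfsg.Agent.Transfer.NormalPComplement
import Cfsg.Agent.OddHalf.LieOddFam
import Cfsg.Agent.OddHalf.Known
import Cfsg.Agent.OddHalf.LongSL.Rk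
import Cfsg.Agent.GH.AltOut
import Cfsg.Agent.CTwoTab.He
import Cfsg.Agent.SylowL.Compare

/-!
# Simple groups with property `Good`
-/

set_option autoImplicit false

namespace Cfsg.Agent.H178.CType

open Subgroup Cfsg.Agent.H503.TwoReg Cfsg Cfsg.Agent.Lib.Cores
open Cfsg.Agent.OddHalf.LieOddFam (Rk OddPow XL27 XL2Big lieOdd_cases)
open Cfsg.Agent.OddHalf.LongSL (HasLong hasLong_of_rk closure_odd_SL)
open scoped commutatorElement

universe u

/-- a non-trivial element conjugate to a commutator `⁅x, yxy⁻¹⁆` -/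
theorem not_solvable_of_comm {C : Type*} [Group C] {x y z : C} (hx : x ≠ 1)
    (h : x = z * ⁅x, y * x * y⁻¹⁆ * z⁻¹) : ¬ Group.IsSolvable C := by
  intro hs
  obtain ⟨n, hn⟩ := (Group.isSolvable_def C).mp hs
  have key : ∀ n, x ∈ derivedSeries C n := by
    intro n
    induction n with
    | zero => exact mem_top x
    | succ n ih =>
      rw [h]
      refine (derivedSeries_normal C (n + 1)).conj_mem _ ?_ _
      exact commutator_mem_commutator ih ((derivedSeries_normal C n).conj_mem _ ih _)
  have := key n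
  rw [hn] at this
  exact hx this

theorem not_solvable_alt8 {G : Type*} [Group G] (f : alternatingGroup (Fin 8) →* G) (hf : Function.Injective f) :
    ∃ t : G, t ≠ 1 ∧ t ^ 3 ^ 1 = 1 ∧ ¬ Group.IsSolvable (cz t) := by
  let t : alternatingGroup (Fin 8) := ⟨Equiv.swap 0 1 * Equiv.swap 1 2, Equiv.Perm.mem_alternatingGroup.2 (by decide +kernel)⟩
  let x : alternatingGroup (Fin 8) := ⟨Equiv.swap 3 4 * Equiv.swap 4 5, Equiv.Perm.mem_alternatingGroup.2 (by decide +kernel)⟩
  let y : alternatingGroup (Fin 8) := ⟨Equiv.swap 4 6 * Equiv.swap 5 7, Equiv.Perm.mem_alternatingGroup.2 (by decide +kernel)⟩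
  let z : alternatingGroup (Fin 8) := ⟨Equiv.swap 5 7 * Equiv.swap 7 6, Equiv.Perm.mem_alternatingGroup.2 (by decide +kernel)⟩
  have ht1 : t ≠ 1 := by decide +kernel
  have hx1 : x ≠ 1 := by decide +kernel
  have ht3 : t ^ 3 = 1 := by decide +kernel
  have hxt : x * t = t * x := by decide +kernel
  have hyt : y * t = t * y := by decide +kernel
  have hzt : z * t = t * z := by decide +kernel
  have key : x = z * ⁅x, y * x * y⁻¹⁆ * z⁻¹ := by decide +kernel
  refine ⟨f t, fun h => ht1 (hf (by rw [h, map_one])), by rw [pow_one, ← map_pow, ht3, map_one], ?_⟩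
  have hc : ∀ g, g * t = t * g → f g ∈ cz (f t) := fun g hg => mem_cz.mpr (by rw [← map_mul, hg, map_mul])
  refine not_solvable_of_comm (x := ⟨f x, hc x hxt⟩) (y := ⟨f y, hc y hyt⟩) (z := ⟨f z, hc z hzt⟩) ?_ ?_
  · intro h
    exact hx1 (hf (by rw [map_one]; exact congrArg Subtype.val h))
  · apply Subtype.ext
    show f x = f z * ⁅f x, f y * f x * (f y)⁻¹⁆ * (f z)⁻¹
    conv_lhs => rw [key]
    simp only [map_mul, map_inv, commutatorElement_def]

/-- `SL₂(3)`: the data used below. -/
theorem exists_quat {F : Type*} [Field F] [Fintype F] (h3 : Fintype.card F = 3) :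
    ∃ x y d : Matrix.SpecialLinearGroup (Fin 2) F, x ∈ pCore 2 (Matrix.SpecialLinearGroup (Fin 2) F) ∧
      y ∈ pCore 2 (Matrix.SpecialLinearGroup (Fin 2) F) ∧ x * y ≠ y * x ∧ d ^ 3 = 1 ∧ d * x ≠ x * d ∧
      x * x ≠ 1 ∧ (x * x) * (x * x) = 1 ∧
      ∀ j : Matrix.SpecialLinearGroup (Fin 2) F, j ≠ 1 → j * j = 1 → j = x * x := by
  have φ : ZMod 3 ≃+* F := ZMod.ringEquivOfPrime F Nat.prime_three h3
  let e := ChevalleyStructure.FieldIso.slEquiv 2 φ
  suffices H : ∃ x y d : Matrix.SpecialLinearGroup (Fin 2) (ZMod 3),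
      x ∈ pCore 2 (Matrix.SpecialLinearGroup (Fin 2) (ZMod 3)) ∧
      y ∈ pCore 2 (Matrix.SpecialLinearGroup (Fin 2) (ZMod 3)) ∧ x * y ≠ y * x ∧ d ^ 3 = 1 ∧ d * x ≠ x * d ∧
      x * x ≠ 1 ∧ (x * x) * (x * x) = 1 ∧
      ∀ j : Matrix.SpecialLinearGroup (Fin 2) (ZMod 3), j ≠ 1 → j * j = 1 → j = x * x by
    obtain ⟨x, y, d, hx, hy, h1, h2, h3, h4, h5, h6⟩ := H
    have hmem : ∀ {a : Matrix.SpecialLinearGroup (Fin 2) (ZMod 3)},
        a ∈ pCore 2 (Matrix.SpecialLinearGroup (Fin 2) (ZMod 3)) → e a ∈ pCore 2 (Matrix.SpecialLinearGroup (Fin 2) F) := by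
      intro a ha
      rw [← map_equiv_pCore e 2]
      exact ⟨a, ha, rfl⟩
    refine ⟨e x, e y, e d, hmem hx, hmem hy, ?_, ?_, ?_, ?_, ?_, ?_⟩
    · intro h
      apply h1
      apply e.injective
      rw [map_mul, map_mul, h]
    · rw [← map_pow, h2, map_one]
    · intro h
      apply h3
      apply e.injective
      rw [map_mul, map_mul, h]
    · intro h
      apply h4
      apply e.injective
      rw [map_mul, h, map_one]
    · rw [← map_mul, ← map_mul, h5, map_one]
    · intro j hj1 hjj
      have := h6 (e.symm j) (by simpa using hj1) (by rw [← map_mul, hjj, map_one])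
      rw [← map_mul, ← this, MulEquiv.apply_symm_apply]
  have hQ : LieClassical.SLTwoThree.qhom.range ≤ pCore 2 (Matrix.SpecialLinearGroup (Fin 2) (ZMod 3)) := by
    refine le_pCore LieClassical.SLTwoThree.range_normal (IsPGroup.of_card (n := 3) ?_)
    rw [LieClassical.SLTwoThree.card_range]; rfl
  refine ⟨LieClassical.SLTwoThree.qhom (.a 1), LieClassical.SLTwoThree.qhom (.xa 0), ⟨!![1, 1; 0, 1], by decide⟩,
    hQ ⟨_, rfl⟩, hQ ⟨_, rfl⟩, ?_, ?_, ?_, ?_, ?_, ?_⟩
  · decide +kernel
  · decide +kernel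
  · decide +kernel
  · decide +kernel
  · decide +kernel
  · decide +kernel

/-- no long `SL₂(q)` -/
theorem Good.not_long {G : Type*} [Group G] [Finite G] {m : ℕ} (h : Good G m) {q : ℕ} (hq : 3 ≤ q) : ¬ HasLong q G := by
  rintro ⟨j, J, hj, hjJ, hJ, hsn, F, i1, i2, hF, ho, ⟨e⟩⟩
  have hj1 : j ≠ 1 := by
    rintro rfl
    rw [orderOf_one] at hj; omega
  have hjj : j * j = 1 := by rw [← pow_two, ← hj]; exact pow_orderOf_eq_one j
  have hsol : Group.IsSolvable (cz j) := h.solvable Nat.prime_two hj1 (k := 1) (by rw [pow_one, pow_two, hjj])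
  rcases Nat.lt_or_ge q 4 with hq4 | hq4
  · have hF3 : Fintype.card F = 3 := by omega
    obtain ⟨x, y, d, hx, hy, h1, h2, h3, h4, h5, h6⟩ := exists_quat hF3
    have hej : e ⟨j, hjJ⟩ = x * x := by
      apply h6
      · intro h0
        apply hj1
        have := e.injective (h0.trans (map_one e).symm)
        exact congrArg Subtype.val this
      · rw [← map_mul]
        have : (⟨j, hjJ⟩ : J) * ⟨j, hjJ⟩ = 1 := Subtype.ext hjj
        rw [this, map_one]
    have hcore : (pCore 2 ↥J).map J.subtype ≤ (pCore 2 ↥(cz j)).map (cz j).subtype := H4.Lf.core_le hJ hsn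
    have hmem : ∀ a : Matrix.SpecialLinearGroup (Fin 2) F, a ∈ pCore 2 (Matrix.SpecialLinearGroup (Fin 2) F) →
        (⟨(e.symm a : G), hJ (e.symm a).2⟩ : cz j) ∈ pCore 2 (cz j) := by
      intro a ha
      have h7 : e.symm a ∈ pCore 2 J := by
        rw [← map_equiv_pCore e.symm 2]
        exact ⟨a, ha, rfl⟩
      obtain ⟨b, hb, hb'⟩ := hcore ⟨e.symm a, h7, rfl⟩
      have : b = (⟨(e.symm a : G), hJ (e.symm a).2⟩ : cz j) := Subtype.ext hb'
      rw [← this]
      exact hb
    have hxj : (e.symm x : G) * e.symm x = j := by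
      rw [← coe_mul, ← map_mul, ← hej, MulEquiv.symm_apply_apply]
    refine h.false_of_quat (x := e.symm x) (y := e.symm y) (d := e.symm d) hj hsol hxj (hJ (e.symm y).2) (hmem x hx)
      (hmem y hy) ?_ ?_ (hJ (e.symm d).2) ?_
    · intro h7
      apply h1
      apply e.symm.injective
      rw [map_mul, map_mul]
      exact Subtype.ext h7
    · rw [← SubmonoidClass.coe_pow, ← map_pow, h2, map_one]; rfl
    · intro h7
      apply h3
      apply e.symm.injective
      rw [map_mul, map_mul]
      exact Subtype.ext h7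
  · apply Classification.NGroupExclude.not_isSolvable_sl F (by rw [hF]; exact hq4)
    exact Group.isSolvable_of_isSolvable_injective (f := (Subgroup.inclusion hJ).comp e.symm.toMonoidHom)
      ((Subgroup.inclusion_injective hJ).comp e.symm.injective)

/-- the Ree groups: `C(t) = 2 × L₂(q)` -/
theorem Good.not_ree {G : Type*} [Group G] [Finite G] {m : ℕ} (h : Good G m) : ¬ Lie.IsoRee G := by
  rintro ⟨F, _, _, n, hn, hF, ⟨e⟩⟩
  obtain ⟨a, haH, ha1, ha2⟩ := S1157.exists_involution hF
  obtain ⟨⟨f⟩, -⟩ := S1152.result hF a haH ha1 ha2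
  haveI : Finite ↥(Lie.twistedG2 F (3 ^ n)) := Finite.of_equiv G e.toEquiv
  have hx : e.symm a ≠ 1 := by simpa using ha1
  have h1 : Group.IsSolvable (cz (e.symm a)) :=
    h.solvable Nat.prime_two hx (k := 1) (by rw [pow_one, pow_two, ← map_mul, ha2, map_one])
  let g : Matrix.ProjectiveSpecialLinearGroup (Fin 2) F →* centralizer ({a} : Set ↥(Lie.twistedG2 F (3 ^ n))) :=
    f.symm.toMonoidHom.comp (MonoidHom.inr (Multiplicative (ZMod 2)) (Matrix.ProjectiveSpecialLinearGroup (Fin 2) F))
  have hg : Function.Injective g := f.symm.injective.comp (fun x y hxy => (Prod.ext_iff.1 hxy).2)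
  let k : centralizer ({a} : Set ↥(Lie.twistedG2 F (3 ^ n))) →* cz (e.symm a) :=
    (e.symm.toMonoidHom.comp (centralizer ({a} : Set ↥(Lie.twistedG2 F (3 ^ n)))).subtype).codRestrict _ (by
      rintro ⟨x, hx⟩
      rw [mem_cz]
      change e.symm x * e.symm a = e.symm a * e.symm x
      rw [← map_mul, mem_centralizer_singleton_iff.mp hx, map_mul])
  have hk : Function.Injective k := by
    intro x y hxy
    have : e.symm (x : ↥(Lie.twistedG2 F (3 ^ n))) = e.symm y := congrArg Subtype.val hxy
    exact Subtype.ext (e.symm.injective this)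
  have h2 : Group.IsSolvable (Matrix.ProjectiveSpecialLinearGroup (Fin 2) F) :=
    Group.isSolvable_of_isSolvable_injective (f := k.comp g) (hk.comp hg)
  refine ClassicalGeometry.PSL2Solvable.not_isSolvable_psl F ?_ h2
  rw [hF]
  calc 4 ≤ 3 ^ 2 := by norm_num
    _ ≤ 3 ^ (2 * n + 1) := Nat.pow_le_pow_right (by norm_num) (by omega)

/-- the conclusion -/
def Concl (G : Type u) [Group G] : Prop :=
  (∃ (F : Type) (_ : Field F) (_ : Fintype F), 3 < Fintype.card F ∧
        Nonempty (G ≃* Matrix.ProjectiveSpecialLinearGroup (Fin 2) F)) ∨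
      Cfsg.Lie.IsoSuzuki G ∨ Nonempty (G ≃* ↥(alternatingGroup (Fin 7))) ∨
      (∃ (F : Type) (_ : Field F) (_ : Fintype F), Fintype.card F = 4 ∧
        Nonempty (G ≃* Matrix.ProjectiveSpecialLinearGroup (Fin 3) F))

/-- alternating groups -/
theorem Good.concl_alt {G : Type u} [Group G] [Finite G] {m : ℕ} (h : Good G m) {n : ℕ} (h5 : 5 ≤ n)
    (e : G ≃* ↥(alternatingGroup (Fin n))) : Concl G := by
  rcases Nat.lt_or_ge n 8 with h8 | h8
  · have h3 : n = 5 ∨ n = 6 ∨ n = 7 := by omega
    rcases h3 with rfl | rfl | rfl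
    · haveI : Fact (Nat.Prime 2) := ⟨Nat.prime_two⟩
      letI : Fintype (GaloisField 2 2) := Fintype.ofFinite _
      have hc : Fintype.card (GaloisField 2 2) = 4 := by
        rw [← Nat.card_eq_fintype_card, GaloisField.card 2 2 (by norm_num)]; norm_num
      obtain ⟨f⟩ := S0252.result (F := GaloisField 2 2) hc
      exact Or.inl ⟨GaloisField 2 2, inferInstance, inferInstance, by rw [hc]; norm_num, ⟨e.trans f.symm⟩⟩
    · haveI : Fact (Nat.Prime 3) := ⟨Nat.prime_three⟩
      letI : Fintype (GaloisField 3 2) := Fintype.ofFinite _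
      have hc : Fintype.card (GaloisField 3 2) = 9 := by
        rw [← Nat.card_eq_fintype_card, GaloisField.card 3 2 (by norm_num)]; norm_num
      obtain ⟨f⟩ := S0254.result (F := GaloisField 3 2) hc
      exact Or.inl ⟨GaloisField 3 2, inferInstance, inferInstance, by rw [hc]; norm_num, ⟨e.trans f.symm⟩⟩
    · exact Or.inr (Or.inr (Or.inl ⟨e⟩))
  · exfalso
    obtain ⟨f, hf⟩ := SylowL.Compare.exists_alt_hom h8
    obtain ⟨t, ht1, ht, hns⟩ := not_solvable_alt8 (e.symm.toMonoidHom.comp f) (e.symm.injective.comp hf)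
    exact hns (h.solvable Nat.prime_three ht1 ht)

theorem npc_of_isPGroup {C : Type*} [Group C] [Finite C] (h : IsPGroup 2 C) : HasNormalPComplement 2 C := by
  rw [Transfer.NormalPComplement.hasNormalPComplement_iff]
  refine ⟨⊥, inferInstance, by simp, ?_⟩
  exact h.to_quotient ⊥

/-- **Simple groups with property `Good`.** -/
theorem Good.concl {G : Type u} [Group G] [Finite G] [IsSimpleGroup G] (hG : ¬ IsMulCommutative G) {m : ℕ}
    (h : Good G m) : Concl G := by
  have hsol : ∀ t : G, orderOf t = 2 → Group.IsSolvable (cz t) := by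
    intro t ht
    have ht1 : t ≠ 1 := by
      rintro rfl
      rw [orderOf_one] at ht; omega
    exact h.solvable Nat.prime_two ht1 (k := 1) (by rw [pow_one, ← ht]; exact pow_orderOf_eq_one t)
  by_cases hcore : ∀ t : G, orderOf t = 2 → centralizerPPrimeCore 2 t = ⊥
  · have hcore' : ∀ t : G, orderOf t = 2 → pPrimeCore 2 ↥(cz t) = ⊥ := by
      intro t ht
      have h2 := hcore t ht
      unfold centralizerPPrimeCore at h2
      exact (Subgroup.map_eq_bot_iff_of_injective _ (Subgroup.subtype_injective _)).1 h2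
    by_cases hcit : ∀ t : G, orderOf t = 2 → IsPGroup 2 (cz t)
    · exact S3214.result hG fun t ht => npc_of_isPGroup (hcit t ht)
    · push Not at hcit
      obtain ⟨t, ht, hnp⟩ := hcit
      let S : Sylow 2 G := default
      have hS := h.sylow_comm hsol hcore' ht hnp S
      have hS' : IsMulCommutative ↥(S : Subgroup G) :=
        ⟨⟨fun a b => Subtype.ext (hS a a.2 b b.2)⟩⟩
      have hns : ¬ Group.IsSolvable G := by
        intro hs
        apply hG
        exact ⟨⟨IsSimpleGroup.comm_iff_isSolvable.2 hs⟩⟩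
      rcases S3188.result S hS' hsol with h1 | ⟨F, i1, i2, hF, N, hN, ⟨e⟩, hNC⟩
      · exact absurd h1 hns
      · left
        have hodd : oddCore G = ⊥ := by
          have hn : (oddCore G).Normal := by
            show (pPrimeCore 2 G).Normal
            infer_instance
          rcases hn.eq_bot_or_eq_top with h1 | h1
          · exact h1
          · exfalso
            have h2 : (Nat.card (pPrimeCore 2 G)).Coprime 2 := pPrimeCore_coprime 2
            have h3 : pPrimeCore 2 G = ⊤ := h1
            rw [h3, Subgroup.card_top] at h2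
            have h4 : 2 ∣ Nat.card G := by rw [← ht]; exact orderOf_dvd_natCard t
            have := Nat.dvd_gcd h4 dvd_rfl
            rw [h2] at this
            omega
        have e0 : (G ⧸ oddCore G) ≃* G := (QuotientGroup.quotientMulEquivOfEq hodd).trans QuotientGroup.quotientBot
        haveI : Nontrivial (G ⧸ oddCore G) := e0.toEquiv.nontrivial
        haveI : IsSimpleGroup (G ⧸ oddCore G) :=
          IsSimpleGroup.isSimpleGroup_of_surjective e0.symm.toMonoidHom e0.symm.surjective
        have hNt : N = ⊤ := by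
          rcases hN.eq_bot_or_eq_top with h1 | h1
          · exfalso
            subst h1
            rw [coe_bot] at hNC
            have h2 : (centralizer ({1} : Set (G ⧸ oddCore G))) = ⊤ := by
              rw [eq_top_iff]
              intro g _
              exact mem_centralizer_singleton_iff.mpr (by rw [mul_one, one_mul])
            rw [h2] at hNC
            exact (top_ne_bot hNC)
          · exact h1
        subst hNt
        refine ⟨F, i1, i2, ?_, ⟨(e0.symm.trans Subgroup.topEquiv.symm).trans e⟩⟩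
        rcases hF with ⟨-, h5⟩ | ⟨n, hn, hn'⟩
        · omega
        · rw [hn']
          calc 3 < 2 ^ 2 := by norm_num
            _ ≤ 2 ^ n := Nat.pow_le_pow_right (by norm_num) hn
  · push Not at hcore
    obtain ⟨t, ht, hcore⟩ := hcore
    have htop := GH.AltOut.fstar_eq_top hG
    have e0 : ↥(generalizedFittingSubgroup G) ≃* G :=
      (MulEquiv.subgroupCongr htop).trans Subgroup.topEquiv
    have hs : IsSimpleGroup ↥(generalizedFittingSubgroup G) := by
      haveI : Nontrivial ↥(generalizedFittingSubgroup G) := e0.toEquiv.nontrivial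
      exact IsSimpleGroup.isSimpleGroup_of_surjective e0.symm.toMonoidHom e0.symm.surjective
    have hna : ¬ IsMulCommutative ↥(generalizedFittingSubgroup G) := by
      intro h1
      apply hG
      refine ⟨⟨fun a b => ?_⟩⟩
      have h2 := mul_comm' (e0.symm a) (e0.symm b)
      rw [← map_mul, ← map_mul] at h2
      exact e0.symm.injective h2
    rcases S1311.result hs hna t ht hcore with h1 | ⟨n, hn, hn7, ⟨e⟩⟩ | ⟨F, i1, i2, hF, ⟨e⟩⟩ | h1
    · obtain ⟨p, hp, hp2, hL⟩ := h1
      have hL' : OddHalf.Iface.LieOdd G := ⟨p, hp, hp2, OddHalf.Known.isLieTypeChar_congr e0 hL⟩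
      by_cases ha : IsAlternating G
      · obtain ⟨n, h5, ⟨e⟩⟩ := ha
        exact h.concl_alt h5 e
      · rcases lieOdd_cases hL' ha with h1 | h1 | h1 | ⟨q, hq, h1⟩
        · obtain ⟨F, i1, i2, hF, he⟩ := h1
          exact Or.inl ⟨F, i1, i2, by rw [hF]; norm_num, he⟩
        · obtain ⟨F, i1, i2, -, hF, he⟩ := h1
          exact Or.inl ⟨F, i1, i2, by omega, he⟩
        · exact absurd h1 h.not_ree
        · exact absurd (hasLong_of_rk hq h1) (h.not_long hq.three_le)
    · exact h.concl_alt (by omega) (e0.symm.trans e)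
    · exact Or.inr (Or.inr (Or.inr ⟨F, i1, i2, hF, ⟨e0.symm.trans e⟩⟩))
    · exfalso
      obtain ⟨e⟩ := h1
      have h2 : Spor.IsoHe G := ⟨e0.symm.trans e⟩
      exact hcore ((CTwoTab.He.compC2_of_iso h2).bal t ht)

end Cfsg.Agent.H178.CType
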