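import Cfsg.Agent.H178.CType.Low
import Cfsg.Agent.Lib.Cores
import Cfsg.Agent.H4.Lf

/-!
# Involution centralizers in groups with property `Good`
-/

set_option autoImplicit false

namespace Cfsg.Agent.H178.CType

open Subgroup Cfsg.Agent.H503.TwoReg Cfsg Cfsg.Agent.Lib.Cores

/-- `O_r(C)` is central for the odd primes `r`. -/
def OddCentral (C : Type*) [Group C] : Prop := ∀ r : ℕ, r.Prime → r ≠ 2 → pCore r C ≤ center C

theorem OddCentral.of_core {C : Type*} [Group C] [Finite C] (h : pPrimeCore 2 C = ⊥) : OddCentral C := by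
  intro r hr hr2
  have := Fact.mk hr
  have h1 : pCore r C ≤ pPrimeCore 2 C := by
    refine le_pPrimeCore (Cfsg.Agent.Lib.Cores.pCore_normal r) ?_
    obtain ⟨k, hk⟩ := (pCore_isPGroup (G := C) r).exists_card_eq
    rw [hk]
    exact Nat.Coprime.pow_left k ((Nat.coprime_primes hr Nat.prime_two).mpr hr2)
  rw [h] at h1
  exact h1.trans bot_le

theorem mem_center_of_cent {C : Type*} [Group C] [Finite C] [Group.IsSolvable C] (h : OddCentral C) {a : C}
    (ha : (orderOf a).Coprime 2) (hc : a ∈ centralizer (pCore 2 C : Set C)) : a ∈ center C := by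
  have h1 : a ∈ centralizer (fittingSubgroup C : Set C) ∧ a ∈ fittingSubgroup C := by
    refine OddOrderLocal.RankTwoFitting.mem_fitting_of_forall_mem_centralizer fun r hr => ?_
    by_cases hr2 : r = 2
    · subst hr2; exact hc
    · rw [mem_centralizer_iff]
      intro g hg
      exact (mem_center_iff.mp (h r hr hr2 hg) a).symm
  exact OddOrderLocal.RankTwoFitting.mem_of_mem_fitting (p := 2) (W := center C) inferInstance h h1.2 ha

theorem zpowers_le_centralizer_zpowers {C : Type*} [Group C] {x a : C} (hxa : x * a = a * x) :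
    zpowers x ≤ centralizer ((zpowers a : Subgroup C) : Set C) := by
  rw [zpowers_le, mem_centralizer_iff]
  rintro _ ⟨k, rfl⟩
  exact ((show Commute x a from hxa).zpow_right k).symm

/-- Thompson's `P × Q` lemma for elements. -/
theorem cent_pCore {C : Type*} [Group C] [Finite C] {x a : C} {k : ℕ} (hx : x ^ 2 ^ k = 1)
    (ha : (orderOf a).Coprime 2) (hxa : x * a = a * x)
    (h : ∀ u ∈ pCore 2 C, u * x = x * u → u * a = a * u) : a ∈ centralizer (pCore 2 C : Set C) := by
  have hn : ∀ H : Subgroup C, H ≤ normalizer (pCore 2 C : Set C) := by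
    intro H
    rw [normalizer_eq_top]
    exact le_top
  have hP : IsPGroup 2 (zpowers x) := by
    rintro ⟨_, j, rfl⟩
    refine ⟨k, Subtype.ext ?_⟩
    show (x ^ j) ^ 2 ^ k = 1
    rw [← zpow_natCast, ← zpow_mul, mul_comm, zpow_mul, zpow_natCast, hx, one_zpow]
  refine S0028.result 2 (zpowers x) (zpowers a) (pCore 2 C) hP
    (by rw [Nat.card_zpowers]; exact ha) (pCore_isPGroup 2) (zpowers_le_centralizer_zpowers hxa)
    (hn _) (hn _) ?_ (mem_zpowers a)
  rintro u ⟨hu, hux⟩
  have h1 : u * x = x * u := ((mem_centralizer_iff.mp hux) x (mem_zpowers x)).symm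
  have h2 := h u hu h1
  rw [mem_centralizer_iff]
  rintro _ ⟨j, rfl⟩
  exact (((show Commute u a from h2).zpow_right j)).symm

variable {G : Type*} [Group G] [Finite G] {m : ℕ}

theorem pow_four' {G : Type*} [Group G] (x : G) : x ^ 2 ^ 2 = (x * x) * (x * x) := by
  rw [show (2 : ℕ) ^ 2 = 2 + 2 from rfl, pow_add, pow_two]

/-- In a solvable involution centralizer `C(t)` with central odd cores and a non-central odd element `w`, every
`2`-element `x` with `C(x) ≤ C(t)` is central. -/
theorem Good.cz_eq (h : Good G m) {t w x : G} (ht : t ≠ 1) {i : ℕ} (hti : t ^ 2 ^ i = 1)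
    (hsol : Group.IsSolvable (cz t)) (hodd : OddCentral ↥(cz t)) {r j : ℕ} (hr : r.Prime) (hr2 : r ≠ 2)
    (hwr : w ^ r ^ j = 1) (hw : w ∈ cz t) (hwn : ¬ cz t ≤ cz w) {k : ℕ} (hx : x ^ 2 ^ k = 1)
    (hxt : cz x ≤ cz t) : cz x = cz t := by
  by_contra hne
  have hlt : cz x < cz t := lt_of_le_of_ne hxt hne
  have hm := h x t ht hlt
  have := Fact.mk hr
  have hwo : (orderOf w).Coprime 2 :=
    Nat.Coprime.coprime_dvd_left (orderOf_dvd_of_pow_eq_one hwr)
      (Nat.Coprime.pow_left j ((Nat.coprime_primes hr Nat.prime_two).mpr hr2))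
  have hm' := h.card_mul ht hw (coprime_two_of_pow hti hwo) hwn
  have hx1 : x ≠ 1 := by
    rintro rfl
    apply hlt.not_ge
    intro g _
    exact mem_cz.mpr (by rw [mul_one, one_mul])
  have hxx : x ∈ cz t := hxt (mem_cz.mpr rfl)
  -- the elements of odd order of `C(x)` are central in `C(t)`
  have hcen : ∀ a ∈ cz x, (orderOf a).Coprime 2 → cz t ≤ cz a := by
    intro a ha hao
    have h1 := h.low_central hx1 hm ha (coprime_two_of_pow hx hao)
    have h2 : (⟨a, hxt ha⟩ : cz t) ∈ center (cz t) := by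
      apply mem_center_of_cent hodd
      · rw [← orderOf_coe]; exact hao
      · refine cent_pCore (x := ⟨x, hxx⟩) (k := k) (Subtype.ext hx) (by rw [← orderOf_coe]; exact hao)
          (Subtype.ext (mem_cz.mp ha).symm) ?_
        intro u _ hux
        apply Subtype.ext
        exact mem_cz.mp (h1 (mem_cz.mpr (congrArg Subtype.val hux)))
    rwa [mem_center_cz] at h2
  -- a Sylow `r`-subgroup of `C(x)`
  let P : Sylow r (cz x) := default
  let P' : Subgroup G := (P : Subgroup (cz x)).map (cz x).subtype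
  have hP' : IsPGroup r P' := P.isPGroup'.map _
  have hP'x : P' ≤ cz x := map_subtype_le _
  have hP'o : ∀ a ∈ P', (orderOf a).Coprime 2 := by
    intro a ha
    obtain ⟨n, hn⟩ := hP' ⟨a, ha⟩
    have hn' : a ^ r ^ n = 1 := congrArg Subtype.val hn
    exact Nat.Coprime.coprime_dvd_left (orderOf_dvd_of_pow_eq_one hn')
      (Nat.Coprime.pow_left n ((Nat.coprime_primes hr Nat.prime_two).mpr hr2))
  have hP'w : ∀ a ∈ P', w * a = a * w := fun a ha => mem_cz.mp (hcen a (hP'x ha) (hP'o a ha) hw)
  have hcard : Nat.card P' = r ^ m.factorization r := by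
    have h1 : Nat.card P' = Nat.card (P : Subgroup (cz x)) :=
      Nat.card_congr ((P : Subgroup (cz x)).equivMapOfInjective (cz x).subtype (subtype_injective _)).symm.toEquiv
    rw [h1, P.card_eq_multiplicity, hm]
  let K : Subgroup G := P' ⊔ zpowers w
  have hwP : IsPGroup r (zpowers w) := by
    rintro ⟨_, l, rfl⟩
    refine ⟨j, Subtype.ext ?_⟩
    show (w ^ l) ^ r ^ j = 1
    rw [← zpow_natCast, ← zpow_mul, mul_comm, zpow_mul, zpow_natCast, hwr, one_zpow]
  have hK : IsPGroup r K := by
    refine hP'.to_sup_of_normal_right' hwP ?_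
    intro a ha
    have h1 : zpowers w ≤ centralizer ({a} : Set G) := by
      rw [zpowers_le]
      exact mem_cz.mpr (hP'w a ha)
    rw [mem_normalizer_iff]
    intro g
    have key : ∀ g ∈ zpowers w, a * g * a⁻¹ = g := by
      intro g hg
      have := mem_cz.mp (h1 hg)
      rw [← this, mul_inv_cancel_right]
    constructor
    · intro hg
      rw [key g hg]; exact hg
    · intro hg
      have h2 := key _ hg
      have h3 : g = a * g * a⁻¹ := by
        have : a * (a * g * a⁻¹) * a⁻¹ = a * g * a⁻¹ := h2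
        have h4 : a * g * a⁻¹ = g := by
          have := mul_right_cancel this
          exact mul_left_cancel this
        exact h4.symm
      rw [h3]; exact hg
  have hKle : K ≤ cz (t * w) := by
    rw [cz_mul (mem_cz.mp hw).symm (coprime_two_of_pow hti hwo)]
    refine sup_le ?_ ?_
    · intro a ha
      exact ⟨hxt (hP'x ha), mem_cz.mpr (hP'w a ha).symm⟩
    · rw [zpowers_le]
      exact ⟨hw, mem_cz.mpr rfl⟩
  have hKcard : Nat.card K ≤ Nat.card P' := by
    obtain ⟨n, hn⟩ := hK.exists_card_eq
    have h1 : Nat.card K ∣ Nat.card (cz (t * w)) := card_dvd_of_le hKle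
    rw [hm', hn] at h1
    rw [hn, hcard]
    refine Nat.pow_le_pow_right hr.pos ?_
    have hm0 : m ≠ 0 := by rw [← hm]; exact Nat.card_pos.ne'
    exact (hr.pow_dvd_iff_le_factorization hm0).mp h1
  have hKeq : P' = K := Subgroup.eq_of_le_of_card_ge le_sup_left hKcard
  have hwP' : w ∈ P' := by
    rw [hKeq]
    exact mem_sup_right (mem_zpowers w)
  exact hwn (hcen w (hP'x hwP') hwo)

/-- An involution `t` with solvable centralizer, central odd cores and a non-central odd element in `C(t)` is not a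
square. -/
theorem Good.not_sq (h : Good G m) {t w : G} (ht : t ≠ 1) (htt : t * t = 1)
    (hsol : Group.IsSolvable (cz t)) (hodd : OddCentral ↥(cz t)) {r j : ℕ} (hr : r.Prime) (hr2 : r ≠ 2)
    (hwr : w ^ r ^ j = 1) (hw : w ∈ cz t) (hwn : ¬ cz t ≤ cz w) (x : G) : x * x ≠ t := by
  intro hx
  have ht2 : t ^ 2 ^ 1 = 1 := by rw [pow_one, pow_two, htt]
  have key : ∀ {y : G} {k : ℕ}, y ^ 2 ^ k = 1 → cz y ≤ cz t → cz y = cz t := fun hy hyt =>
    h.cz_eq ht ht2 hsol hodd hr hr2 hwr hw hwn hy hyt
  have hxt : cz x = cz t := by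
    refine key (k := 2) ?_ (hx ▸ cz_le_sq x)
    rw [pow_four', hx, htt]
  have hwo : (orderOf w).Coprime 2 :=
    Nat.Coprime.coprime_dvd_left (orderOf_dvd_of_pow_eq_one hwr)
      (Nat.Coprime.pow_left j ((Nat.coprime_primes hr Nat.prime_two).mpr hr2))
  -- the involutions of `C(t)` are central
  have hinv : ∀ y ∈ cz t, y * y = 1 → cz t ≤ cz y := by
    intro y hy hyy
    have hxy : x * y = y * x := (mem_cz.mp (hxt ▸ hy : y ∈ cz x)).symm
    have h1 : (x * y) * (x * y) = t := by
      calc (x * y) * (x * y) = x * (y * x) * y := by group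
        _ = x * (x * y) * y := by rw [hxy]
        _ = (x * x) * (y * y) := by group
        _ = t := by rw [hx, hyy, mul_one]
    have h2 : cz (x * y) = cz t := by
      refine key (k := 2) ?_ (h1 ▸ cz_le_sq (x * y))
      rw [pow_four', h1, htt]
    intro g hg
    have hgx : Commute g x := mem_cz.mp (hxt ▸ hg : g ∈ cz x)
    have hgxy : Commute g (x * y) := mem_cz.mp (h2 ▸ hg : g ∈ cz (x * y))
    have hgy : Commute g y := by
      have := hgx.inv_right.mul_right hgxy
      rwa [inv_mul_cancel_left] at this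
    exact mem_cz.mpr hgy
  -- the `2`-elements of `C(t)` are central
  have hall : ∀ (k : ℕ) (y : G), y ∈ cz t → y ^ 2 ^ k = 1 → cz t ≤ cz y := by
    intro k y hy hk
    by_cases hy1 : y = 1
    · subst hy1
      intro g _
      exact mem_cz.mpr (by rw [mul_one, one_mul])
    -- the involution in `⟨y⟩`
    obtain ⟨n, hn⟩ : ∃ n : ℕ, (y ^ n ≠ 1 ∧ y ^ n * y ^ n = 1) := by
      induction k generalizing y with
      | zero => exact absurd (by simpa using hk) hy1
      | succ k ih =>
        by_cases h1 : y ^ 2 ^ k = 1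
        · exact ih y hy h1 hy1
        · exact ⟨2 ^ k, h1, by rw [← pow_add, ← two_mul, ← pow_succ']; exact hk⟩
    have hu : y ^ n ∈ cz t := pow_mem hy n
    have h1 := hinv _ hu hn.2
    have h2 : cz (y ^ n) = cz t := by
      by_contra hne
      have hlt : cz t < cz (y ^ n) := lt_of_le_of_ne h1 (Ne.symm hne)
      have h3 := h _ _ hn.1 hlt
      have h4 := h.card_mul ht hw (coprime_two_of_pow ht2 hwo) hwn
      have h5 : cz (t * w) = cz t ⊓ cz w := cz_mul (mem_cz.mp hw).symm (coprime_two_of_pow ht2 hwo)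
      have h6 : cz (t * w) = cz t := by
        refine Subgroup.eq_of_le_of_card_ge (by rw [h5]; exact inf_le_left) ?_
        rw [h3, h4]
      apply hwn
      rw [← h6, h5]
      exact inf_le_right
    have h3 : cz y = cz t := key hk (h2 ▸ centralizer_le_of_mem_zpowers (npow_mem_zpowers y n))
    exact h3.ge
  -- contradiction
  apply hwn
  have h1 : (⟨w, hw⟩ : cz t) ∈ center (cz t) := by
    apply mem_center_of_cent hodd
    · rw [← orderOf_coe]; exact hwo
    · rw [mem_centralizer_iff]
      intro u hu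
      obtain ⟨k, hk⟩ := pCore_isPGroup 2 ⟨u, hu⟩
      have hk' : (u : G) ^ 2 ^ k = 1 := congrArg (fun z => ((z : ↥(cz t)) : G)) (congrArg Subtype.val hk)
      have h3 := hall k u u.2 hk'
      apply Subtype.ext
      exact (mem_cz.mp (h3 hw)).symm
  rwa [mem_center_cz] at h1

end Cfsg.Agent.H178.CType
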